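import Groth.Agent.S3026
import Groth.Agent.S3293
import Groth.Agent.S18101
import Groth.Agent.Pic13.H965.AffHom
import Groth.Agent.AutSch.K936.Fam
import Groth.Agent.AbVar.K518.Sec
import Groth.Agent.JacVar.K533.CurveBasic
import Groth.Agent.AlgGrp.K407.PicProd
import Groth.Prelude.Def_ChGrp
import Mathlib.AlgebraicGeometry.AlgClosed.Basic

/-!
# Affineness of a group acting on a projective variety with a stable big class

`G` a group scheme of finite type over an algebraically closed field acting faithfully on a proper integral `X`, and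
`L` an invertible module with `L^n = A ⊗ E`, `A` ample, `E` effective, whose class is invariant under `G`
relatively to every integral base.  Then `G` is affine.
-/

set_option autoImplicit false
universe u
open CategoryTheory MonoidalCategory CartesianMonoidalCategory MonObj GrpObj AlgebraicGeometry
open Groth.Agent.Grpsch.PicGrp Groth.Agent.Fdesc.LocGen

namespace K238.AffineAct

open K518.Sec AutSch K936.Fam

/-- A morphism of `𝒪`-modules `𝒪 ⟶ 𝒪` on a scheme whose ring of functions is a field is zero or an isomorphism: the trivial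
class is not positive. -/
theorem not_isPos_one {N : Scheme.{u}} [IsIntegral N] (h : IsField Γ(N, ⊤)) : ¬ IsPos (1 : Pic N) := by
  intro hp
  have hp' : IsPos (mk (Coh.structureModule N) isInvertible_structureModule) := hp
  obtain ⟨t, ht, hiso⟩ := hp'.exists_section'
  apply hiso
  rw [isIso_iff_genLocus]
  have h1 : IsGen (one (X := N) ⊤) := isGen_one _
  obtain ⟨a, ha⟩ := h1.exists_eq (sec t ⊤)
  have h2 := genLocus_inf_eq t h1 ha
  rw [inf_top_eq] at h2
  rw [h2]
  by_cases ha0 : a = 0
  · exfalso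
    apply ht
    apply hom_ext_sec
    rw [ha, ha0, zero_smul]
    rfl
  · obtain ⟨b, hb⟩ := h.mul_inv_cancel ha0
    exact Scheme.basicOpen_of_isUnit _ (IsUnit.of_mul_eq_one b hb)

section Orbit

variable {k : Type u} [Field k] [IsAlgClosed k]

/-- The image point of a rational point. -/
noncomputable abbrev pt {X : Over (Spec (CommRingCat.of k))} (x : 𝟙_ (Over (Spec (CommRingCat.of k))) ⟶ X) : X.left :=
  x.left (IsLocalRing.closedPoint k)

omit [IsAlgClosed k] in
theorem pt_comp {X Y : Over (Spec (CommRingCat.of k))} (x : 𝟙_ (Over (Spec (CommRingCat.of k))) ⟶ X) (f : X ⟶ Y) :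
    pt (x ≫ f) = f.left (pt x) := rfl

/-- Every closed point is the image of a rational point. -/
theorem exists_pt {X : Over (Spec (CommRingCat.of k))} [LocallyOfFiniteType X.hom] (x : X.left)
    (hx : IsClosed ({x} : Set X.left)) : ∃ p : 𝟙_ (Over (Spec (CommRingCat.of k))) ⟶ X, pt p = x :=
  ⟨Over.homMk (pointOfClosedPoint X.hom x hx) (pointOfClosedPoint_comp X.hom x hx),
    pointOfClosedPoint_apply X.hom x hx _⟩

theorem ext_pt {X : Over (Spec (CommRingCat.of k))} [LocallyOfFiniteType X.hom]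
    {x y : 𝟙_ (Over (Spec (CommRingCat.of k))) ⟶ X} (h : pt x = pt y) : x = y := by
  ext1
  exact ext_of_apply_closedPoint_eq X.hom (Over.w x) (Over.w y) h

theorem isClosed_pt {X : Over (Spec (CommRingCat.of k))} [LocallyOfFiniteType X.hom]
    (x : 𝟙_ (Over (Spec (CommRingCat.of k))) ⟶ X) : IsClosed ({pt x} : Set X.left) :=
  ((pointEquivClosedPoint X.hom) ⟨x.left, Over.w x⟩).2

/-- A nonempty open set contains a rational point. -/
theorem exists_pt_mem {X : Over (Spec (CommRingCat.of k))} [LocallyOfFiniteType X.hom] (U : X.left.Opens)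
    (hU : U ≠ ⊥) : ∃ p : 𝟙_ (Over (Spec (CommRingCat.of k))) ⟶ X, pt p ∈ U := by
  have : JacobsonSpace X.left := LocallyOfFiniteType.jacobsonSpace X.hom
  rw [Ne, ← TopologicalSpace.Opens.not_nonempty_iff_eq_bot, not_not] at hU
  obtain ⟨x, hxU, hx⟩ := nonempty_inter_closedPoints hU U.2.isLocallyClosed
  obtain ⟨p, hp⟩ := exists_pt x hx
  exact ⟨p, hp ▸ hxU⟩

/-- Two morphisms from a reduced scheme to a separated one which agree on rational points are equal. -/
theorem ext_of_pt {X Y : Over (Spec (CommRingCat.of k))} [LocallyOfFiniteType X.hom] [IsReduced X.left]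
    [LocallyOfFiniteType Y.hom] [IsSeparated Y.hom] {f g : X ⟶ Y}
    (h : ∀ x : 𝟙_ (Over (Spec (CommRingCat.of k))) ⟶ X, x ≫ f = x ≫ g) : f = g := by
  ext1
  have : LocallyOfFiniteType (f.left ≫ Y.hom) := by rw [Over.w]; infer_instance
  refine ext_of_apply_eq Y.hom Set.univ isOpen_univ.isLocallyClosed dense_univ (fun x _ hx => ?_)
    (by rw [Over.w, Over.w])
  obtain ⟨p, rfl⟩ := exists_pt x hx
  exact congrArg (fun q : 𝟙_ (Over (Spec (CommRingCat.of k))) ⟶ Y => q.left (IsLocalRing.closedPoint k)) (h p)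

omit [IsAlgClosed k] in
theorem pull_pt {X Y : Over (Spec (CommRingCat.of k))} (x : 𝟙_ (Over (Spec (CommRingCat.of k))) ⟶ X)
    (c : Pic X.left) : pull (toUnit Y ≫ x).left c = 1 := by
  rw [Over.comp_left, pull_comp]
  have : pull x.left c = 1 := pic_spec_local k _
  rw [this, map_one]

variable {X N : Over (Spec (CommRingCat.of k))} [GrpObj N] (b : AlgGrp.Action N X)

/-- The map `n ↦ (x, n)`. -/
noncomputable def jx (N : Over (Spec (CommRingCat.of k))) (x : 𝟙_ (Over (Spec (CommRingCat.of k))) ⟶ X) : N ⟶ X ⊗ N :=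
  lift (toUnit N ≫ x) (𝟙 N)

/-- The orbit map `n ↦ g(n) x`. -/
noncomputable def ox (g : N ⟶ N) (x : 𝟙_ (Over (Spec (CommRingCat.of k))) ⟶ X) : N ⟶ X :=
  jx N x ≫ famOf b g

omit [IsAlgClosed k] in
theorem ox_eq (g : N ⟶ N) (x : 𝟙_ (Over (Spec (CommRingCat.of k))) ⟶ X) :
    ox b g x = lift g (toUnit N ≫ x) ≫ b.act := by
  rw [ox, jx, lift_famOf, Category.id_comp]

omit [IsAlgClosed k] in
theorem unit_ox (g : N ⟶ N) (hg : η[N] ≫ g = η[N]) (x : 𝟙_ (Over (Spec (CommRingCat.of k))) ⟶ X) :
    η[N] ≫ ox b g x = x := by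
  rw [ox_eq, comp_lift_assoc, hg]
  have h1 : η[N] ≫ toUnit N ≫ x = x := by
    rw [← Category.assoc, toUnit_unique (η[N] ≫ toUnit N) (𝟙 _), Category.id_comp]
  rw [h1, show (η[N] : 𝟙_ (Over (Spec (CommRingCat.of k))) ⟶ N) = 1 from one_eq_one N, one_act]

omit [IsAlgClosed k] in
theorem pull_ox {c : Pic X.left} {m : Pic N.left}
    (h : pull (endOf (famOf b (𝟙 N))).left (pull (fst X N).left c) = pull (fst X N).left c * pull (snd X N).left m)
    (x : 𝟙_ (Over (Spec (CommRingCat.of k))) ⟶ X) : pull (ox b (𝟙 N) x).left c = m := by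
  have h1 := congrArg (pull (jx N x).left) h
  rw [map_mul, ← pull_comp, ← pull_comp, ← pull_comp, ← pull_comp, ← Over.comp_left, ← Over.comp_left,
    ← Over.comp_left, ← Over.comp_left, Category.assoc, endOf_fst] at h1
  have h2 : jx N x ≫ fst X N = toUnit N ≫ x := by simp [jx]
  have h3 : jx N x ≫ snd X N = 𝟙 N := by simp [jx]
  rw [h2, h3, pull_pt, _root_.one_mul, Over.id_left, pull_id] at h1
  exact h1

omit [IsAlgClosed k] in
theorem pull_ox_inv {c : Pic X.left} {m : Pic N.left}
    (h : pull (endOf (famOf b (𝟙 N))).left (pull (fst X N).left c) = pull (fst X N).left c * pull (snd X N).left m)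
    (x : 𝟙_ (Over (Spec (CommRingCat.of k))) ⟶ X) : pull (ox b (𝟙 N)⁻¹ x).left c * m = 1 := by
  have h1 := congrArg (pull (jx N x ≫ endOf (famOf b (𝟙 N)⁻¹)).left) h
  rw [map_mul, ← pull_comp, ← pull_comp, ← pull_comp, ← pull_comp, ← Over.comp_left, ← Over.comp_left,
    ← Over.comp_left, ← Over.comp_left, Category.assoc _ (endOf (famOf b (𝟙 N))), endOf_fst] at h1
  have h0 : (jx N x ≫ endOf (famOf b (𝟙 N)⁻¹)) ≫ famOf b (𝟙 N) = toUnit N ≫ x := by
    rw [← endOf_fst (famOf b (𝟙 N)), ← Category.assoc, Category.assoc (jx N x), endOf_famOf_comp,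
      mul_inv_cancel, endOf_famOf_one, Category.comp_id]
    simp [jx]
  have h2 : (jx N x ≫ endOf (famOf b (𝟙 N)⁻¹)) ≫ fst X N = ox b (𝟙 N)⁻¹ x := by
    rw [Category.assoc, endOf_fst]
    rfl
  have h3 : (jx N x ≫ endOf (famOf b (𝟙 N)⁻¹)) ≫ snd X N = 𝟙 N := by
    rw [Category.assoc, endOf_snd]
    simp [jx]
  rw [h0, h2, h3, pull_pt, Over.id_left, pull_id] at h1
  exact h1.symm

/-- The key step: a rational point outside the zero locus of the effective part is fixed by the anti-affine group. -/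
theorem fixed_pt [LocallyOfFiniteType X.hom] [IsIntegral N.left] [LocallyOfFiniteType N.hom]
    (hN : IsField Γ(N.left, ⊤)) {A E : X.left.Modules} (hA : CohB1.IsAmple A) (hE : PicF.IsInvertible E)
    (s : Coh.structureModule X.left ⟶ E) {c : Pic X.left} {n : ℕ} (hc : c ^ n = mk A hA.1 * mk E hE)
    {m : Pic N.left}
    (h : pull (endOf (famOf b (𝟙 N))).left (pull (fst X N).left c) = pull (fst X N).left c * pull (snd X N).left m)
    (x : 𝟙_ (Over (Spec (CommRingCat.of k))) ⟶ X) (hx : pt x ∈ CohB1.genLocus E s)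
    (g : 𝟙_ (Over (Spec (CommRingCat.of k))) ⟶ N) : g ≫ ox b (𝟙 N) x = x := by
  by_contra hne
  have hne' : pt x ≠ pt (g ≫ ox b (𝟙 N) x) := fun h' => hne (ext_pt h').symm
  obtain ⟨r, t, h1, h2, -⟩ := IsAmple.exists_genLocus_le hA (x := pt x)
    (W := ⟨({pt (g ≫ ox b (𝟙 N) x)} : Set X.left)ᶜ, (isClosed_pt _).isOpen_compl⟩) (by simpa using hne')
  have hσ := genLocus_tmulHom (isInvertible_tensorPow hA.1 (r + 1)) (isInvertible_tensorPow hE (r + 1)) t
    (powHom s (r + 1))
  rw [genLocus_powHom hE s r] at hσ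
  have hcl : mk _ (isInvertible_tensorMod (isInvertible_tensorPow hA.1 (r + 1)) (isInvertible_tensorPow hE (r + 1))) =
      (c ^ n) ^ (r + 1) := by
    rw [← mk_mul_mk (isInvertible_tensorPow hA.1 (r + 1)) (isInvertible_tensorPow hE (r + 1)), mk_tensorPow hA.1,
      mk_tensorPow hE, hc, mul_pow]
  have h3 : (ox b (𝟙 N) x).left (pt η[N]) = pt x := by
    rw [← pt_comp, unit_ox b (𝟙 N) (Category.comp_id _) x]
  have h4 : (ox b (𝟙 N)⁻¹ x).left (pt η[N]) = pt x := by
    rw [← pt_comp, unit_ox b _ ?_ x]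
    rw [GrpObj.comp_inv, Category.comp_id, show (η[N] : 𝟙_ (Over (Spec (CommRingCat.of k))) ⟶ N) = 1 from one_eq_one N,
      inv_one]
  have hpos : IsPos (pull (ox b (𝟙 N) x).left ((c ^ n) ^ (r + 1))) := by
    rw [← hcl]
    refine isPos_pull _ _ (tmulHom t (powHom s (r + 1))) (pt η[N]) (pt g) ?_ ?_
    · rw [hσ]
      refine ⟨?_, ?_⟩
      · rw [h3]; exact h1
      · rw [h3]; exact hx
    · rw [hσ]
      intro h'
      exact (h2 h'.1) rfl
  have heff : IsEff (pull (ox b (𝟙 N)⁻¹ x).left ((c ^ n) ^ (r + 1))) := by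
    rw [← hcl]
    refine isEff_pull _ _ (tmulHom t (powHom s (r + 1))) (pt η[N]) ?_
    rw [hσ]
    refine ⟨?_, ?_⟩
    · rw [h4]; exact h1
    · rw [h4]; exact hx
  have := hpos.mul heff
  rw [map_pow, map_pow, map_pow, map_pow, pull_ox b h x, ← mul_pow, ← mul_pow, mul_comm m,
    pull_ox_inv b h x, one_pow, one_pow] at this
  exact not_isPos_one hN this

end Orbit

/-- **Affineness** of a group of finite type acting faithfully with a relatively invariant big class. -/
theorem isAffine_of_action {k : Type u} [Field k] [IsAlgClosed k] (X : Over (Spec (CommRingCat.of k)))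
    [IsIntegral X.left] [IsProper X.hom] {A E : X.left.Modules} (hA : CohB1.IsAmple A)
    (hE : PicF.IsInvertible E) (s : Coh.structureModule X.left ⟶ E) (hs : s ≠ 0) (c : Pic X.left) (n : ℕ)
    (hc : c ^ n = mk A hA.1 * mk E hE) (G : Over (Spec (CommRingCat.of k))) [GrpObj G] [LocallyOfFiniteType G.hom]
    [QuasiCompact G.hom] (a : AlgGrp.Action G X)
    (hinj : ∀ (T : Over (Spec (CommRingCat.of k))) (g h : T ⟶ G), famOf a g = famOf a h → g = h)
    (hP : ∀ (T : Over (Spec (CommRingCat.of k))) [IsIntegral T.left] [LocallyOfFiniteType T.hom] [QuasiCompact T.hom]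
      (g : T ⟶ G), ∃ m : Pic T.left, pull (endOf (famOf a g)).left (pull (fst X T).left c) =
        pull (fst X T).left c * pull (snd X T).left m) : IsAffine G.left := by
  refine Groth.Agent.Pic13.H965.AffHom.isAffine_of_antiAffine_trivial fun N _ i _ hN _ _ => ?_
  have hO : Function.Bijective ((Scheme.ΓSpecIso (CommRingCat.of k)).inv ≫ N.hom.appTop).hom :=
    ConcreteCategory.bijective_of_isIso _
  have hsm := Groth.Agent.S3026.result k N hO
  have hcon := (Groth.Agent.S3293.result k N hO).1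
  have hint : IsIntegral N.left := K533.CurveBasic.isIntegral_of_smooth N.hom
  have hfield : IsField Γ(N.left, ⊤) :=
    MulEquiv.isField (Field.toIsField k) (RingEquiv.ofBijective _ hO).symm.toMulEquiv
  have hgi : GeometricallyIntegral X.hom := K407.PicProd.geometricallyIntegral X.hom
  obtain ⟨x, hx⟩ := exists_pt_mem (CohB1.genLocus E s) (fun h => hs (eq_zero_of_genLocus_eq_bot hE s h))
  let b := a.restrict i
  have hb : ∀ (T : Over (Spec (CommRingCat.of k))) (g : T ⟶ N), famOf b g = famOf a (g ≫ i) := fun T g =>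
    famOf_of_hom a b i rfl g
  obtain ⟨m, hm⟩ := hP N i
  have hm' : pull (endOf (famOf b (𝟙 N))).left (pull (fst X N).left c) =
      pull (fst X N).left c * pull (snd X N).left m := by
    rw [hb, Category.id_comp]
    exact hm
  have h1 : ox b (𝟙 N) x = toUnit N ≫ x := by
    refine ext_of_pt fun g => ?_
    rw [fixed_pt b hfield hA hE s hc hm' x hx g, ← Category.assoc, toUnit_unique (g ≫ toUnit N) (𝟙 _),
      Category.id_comp]
  have hfix : b.IsFixedPt x := by
    intro T g
    have h2 : lift g (toUnit T ≫ x) = g ≫ lift (𝟙 N) (toUnit N ≫ x) := by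
      rw [comp_lift, Category.comp_id, ← Category.assoc, toUnit_unique (g ≫ toUnit N) (toUnit T)]
    rw [h2, Category.assoc, ← ox_eq, h1, ← Category.assoc, toUnit_unique (g ≫ toUnit N) (toUnit T)]
  have h3 := (Groth.Agent.S18101.result k N).mp hO X b x hfix
  apply hinj N
  rw [famOf_one, ← Category.id_comp i, ← hb, famOf, h3, Category.comp_id, lift_snd]

end K238.AffineAct
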