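import Groth.Agent.AutSch.K238.HilbFam
import Groth.Agent.S17076
import Groth.Agent.Sga3B.AdCop
import Groth.Agent.Sga3C.ActBase
import Groth.Prelude.Def_AutSch

/-!
# One family containing all automorphisms whose graphs have a given Hilbert function
-/

set_option autoImplicit false
universe u
open CategoryTheory CategoryTheory.Limits MonoidalCategory CartesianMonoidalCategory AlgebraicGeometry CohB1

namespace K238.AutFamily

open AutSch K238.HilbFam

/-- Isomorphy of a base change, read on arbitrary cartesian squares. -/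
theorem isIso_iff {H T : Scheme.{u}} (t : T ⟶ H) (A B : Over H) (f : A ⟶ B) {A' B' : Scheme.{u}} {a' : A' ⟶ A.left}
    {qA : A' ⟶ T} {b' : B' ⟶ B.left} {qB : B' ⟶ T} (hA : IsPullback a' qA A.hom t) (hB : IsPullback b' qB B.hom t)
    (f' : A' ⟶ B') (h1 : f' ≫ b' = a' ≫ f.left) (h2 : f' ≫ qB = qA) :
    IsIso f' ↔ IsIso ((Over.pullback t).map f).left := by
  have e : f' ≫ hB.isoPullback.hom = hA.isoPullback.hom ≫ ((Over.pullback t).map f).left := by
    apply pullback.hom_ext
    · have h3 := (Groth.Agent.Sga3C.ActBase.isPullback_map_left t f).w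
      rw [Category.assoc, IsPullback.isoPullback_hom_fst, h1, Category.assoc, h3, ← Category.assoc,
        IsPullback.isoPullback_hom_fst]
    · have h3 : ((Over.pullback t).map f).left ≫ pullback.snd B.hom t = pullback.snd A.hom t :=
        Over.w ((Over.pullback t).map f)
      rw [Category.assoc, IsPullback.isoPullback_hom_snd, h2, Category.assoc, h3, IsPullback.isoPullback_hom_snd]
  constructor
  · intro h
    have : IsIso (hA.isoPullback.hom ≫ ((Over.pullback t).map f).left) := by rw [← e]; infer_instance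
    exact IsIso.of_isIso_comp_left hA.isoPullback.hom _
  · intro h
    have : IsIso (f' ≫ hB.isoPullback.hom) := by rw [e]; infer_instance
    exact IsIso.of_isIso_comp_right f' hB.isoPullback.hom

variable {k : Type u} [Field k] {X : Over (Spec (CommRingCat.of k))}

/-- The graph. -/
noncomputable abbrev graph (g : X ⟶ X) : X ⟶ X ⊗ X := lift (𝟙 X) g

instance [IsSeparated X.hom] (g : X ⟶ X) : IsClosedImmersion (graph g).left := by
  have h1 : IsSeparated (fst X X).left := inferInstanceAs (IsSeparated (pullback.fst X.hom X.hom))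
  have h2 : IsClosedImmersion ((graph g).left ≫ (fst X X).left) := by
    rw [← Over.comp_left, lift_fst]
    exact inferInstanceAs (IsClosedImmersion (𝟙 X.left))
  exact IsClosedImmersion.of_comp _ (fst X X).left

theorem exists_autFamily [IsProper X.hom] {n : ℕ} (i : (X ⊗ X).left ⟶ ProjSpaceOver n (Spec (CommRingCat.of k)))
    [IsClosedImmersion i] (hi : i ≫ ProjSpaceOver.toBase n _ = (X ⊗ X).hom) (g₀ : X ⟶ X) :
    ∃ (U : Over (Spec (CommRingCat.of k))) (φ : X ⊗ U ⟶ X), LocallyOfFiniteType U.hom ∧ QuasiCompact U.hom ∧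
      IsSeparated U.hom ∧ IsAutFamily φ ∧ ∀ g : X ⟶ X, IsIso g →
        (∃ D : ℕ, ∀ d : ℕ, D ≤ d → hf i (graph g) d = hf i (graph g₀) d) →
        ∃ h : 𝟙_ (Over (Spec (CommRingCat.of k))) ⟶ U, pullFam h φ = fst X _ ≫ g := by
  obtain ⟨H, Z, q, p, hH, hq, hq', hfam⟩ := exists_family i hi (graph g₀)
  have hHN : IsLocallyNoetherian H.left := LocallyOfFiniteType.isLocallyNoetherian H.hom
  let A : Over H.left := Over.mk q.left
  let B : Over H.left := Over.mk (snd X H).left
  have hA : IsProper A.hom := hq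
  have hA' : Flat A.hom := hq'
  have hB : IsProper B.hom := inferInstanceAs (IsProper (pullback.snd X.hom H.hom))
  let f₁ : A ⟶ B := Over.homMk (lift (p ≫ fst X X) q).left (by
    change (lift (p ≫ fst X X) q).left ≫ (snd X H).left = q.left
    rw [← Over.comp_left, lift_snd])
  let f₂ : A ⟶ B := Over.homMk (lift (p ≫ snd X X) q).left (by
    change (lift (p ≫ snd X X) q).left ≫ (snd X H).left = q.left
    rw [← Over.comp_left, lift_snd])
  obtain ⟨S₁, hS₁⟩ := Groth.Agent.S17076.result A B f₁
  obtain ⟨S₂, hS₂⟩ := Groth.Agent.S17076.result A B f₂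
  let U₀ : H.left.Opens := S₁ ⊓ S₂
  let U : Over (Spec (CommRingCat.of k)) := Over.mk (U₀.ι ≫ H.hom)
  let u : U ⟶ H := Over.homMk U₀.ι rfl
  have hUN : IsLocallyNoetherian U.left := isLocallyNoetherian_of_isOpenImmersion U₀.ι
  have hHc : CompactSpace H.left := QuasiCompact.compactSpace_of_compactSpace H.hom
  have hHNN : IsNoetherian H.left := {}
  have hUc : CompactSpace U.left := by
    have : TopologicalSpace.NoetherianSpace H.left := inferInstance
    exact isCompact_iff_compactSpace.mp (TopologicalSpace.NoetherianSpace.isCompact (U₀ : Set H.left))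
  have hU1 : LocallyOfFiniteType U.hom := inferInstanceAs (LocallyOfFiniteType (U₀.ι ≫ H.hom))
  have hU2 : QuasiCompact U.hom := by
    rw [quasiCompact_iff_compactSpace]
    exact hUc
  have hU3 : IsSeparated U.hom := inferInstanceAs (IsSeparated (U₀.ι ≫ H.hom))
  have hur : Set.range u.left = (U₀ : Set H.left) := Scheme.Opens.range_ι U₀
  -- the family over `U`
  have hpb := IsPullback.of_hasPullback q u
  have hpb' : IsPullback (pullback.fst q u).left (pullback.snd q u).left A.hom u.left := hpb.map (Over.forget _)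
  have hpr : ∀ {T : Over (Spec (CommRingCat.of k))} (t : T ⟶ H), IsPullback (X ◁ t).left (snd X T).left B.hom t.left :=
    fun t => Groth.Agent.Sga3B.AdCop.isPullback_whisker X t
  let b₁ : pullback q u ⟶ X ⊗ U := lift (pullback.fst q u ≫ p ≫ fst X X) (pullback.snd q u)
  let b₂ : pullback q u ⟶ X ⊗ U := lift (pullback.fst q u ≫ p ≫ snd X X) (pullback.snd q u)
  have hb₁ : IsIso b₁ := by
    have h0 : IsIso b₁.left := by
      rw [isIso_iff u.left A B f₁ hpb' (hpr u) b₁.left ?_ ?_]
      · exact (hS₁ _ u.left).mp (by rw [hur]; exact inf_le_left)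
      · change b₁.left ≫ (X ◁ u).left = (pullback.fst q u).left ≫ (lift (p ≫ fst X X) q).left
        rw [← Over.comp_left, ← Over.comp_left]
        congr 1
        ext1 <;> simp [b₁, pullback.condition]
      · rw [← Over.comp_left, lift_snd]
    have h0' : IsIso ((Over.forget _).map b₁) := h0
    exact isIso_of_reflects_iso b₁ (Over.forget _)
  have hb₂ : IsIso b₂ := by
    have h0 : IsIso b₂.left := by
      rw [isIso_iff u.left A B f₂ hpb' (hpr u) b₂.left ?_ ?_]
      · exact (hS₂ _ u.left).mp (by rw [hur]; exact inf_le_right)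
      · change b₂.left ≫ (X ◁ u).left = (pullback.fst q u).left ≫ (lift (p ≫ snd X X) q).left
        rw [← Over.comp_left, ← Over.comp_left]
        congr 1
        ext1 <;> simp [b₂, pullback.condition]
      · rw [← Over.comp_left, lift_snd]
    have h0' : IsIso ((Over.forget _).map b₂) := h0
    exact isIso_of_reflects_iso b₂ (Over.forget _)
  have hend : endOf (inv b₁ ≫ b₂ ≫ fst X U) = inv b₁ ≫ b₂ := by
    rw [endOf]
    ext1
    · simp
    · rw [lift_snd, Category.assoc, lift_snd, IsIso.eq_inv_comp, lift_snd]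
  refine ⟨U, inv b₁ ≫ b₂ ≫ fst X U, hU1, hU2, hU3, ?_, fun g hg hD => ?_⟩
  · unfold IsAutFamily
    rw [hend]
    infer_instance
  obtain ⟨h, v, hv, hvp⟩ := hfam X (graph g) hD
  have hv' : IsPullback v.left (toUnit X).left A.hom h.left := hv.map (Over.forget _)
  have hLN : IsLocallyNoetherian (𝟙_ (Over (Spec (CommRingCat.of k)))).left :=
    inferInstanceAs (IsLocallyNoetherian (Spec (CommRingCat.of k)))
  have he : IsIso (lift (𝟙 X) (toUnit X)) := by
    refine ⟨fst X _, by simp, ?_⟩
    ext1
    · simp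
    · exact toUnit_unique _ _
  have hr₁ : Set.range h.left ⊆ (S₁ : Set H.left) := by
    rw [hS₁ _ h.left, ← isIso_iff h.left A B f₁ hv' (hpr h) (lift (𝟙 X) (toUnit X)).left ?_ ?_]
    · exact inferInstanceAs (IsIso ((Over.forget _).map (lift (𝟙 X) (toUnit X))))
    · change (lift (𝟙 X) (toUnit X)).left ≫ (X ◁ h).left = v.left ≫ (lift (p ≫ fst X X) q).left
      rw [← Over.comp_left, ← Over.comp_left]
      congr 1
      have h1 := congrArg (· ≫ fst X X) hvp
      simp only [Category.assoc, lift_fst] at h1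
      ext1
      · simp [h1]
      · simp [hv.w]
    · rw [← Over.comp_left, lift_snd]
  have hr₂ : Set.range h.left ⊆ (S₂ : Set H.left) := by
    rw [hS₂ _ h.left, ← isIso_iff h.left A B f₂ hv' (hpr h) (g ≫ lift (𝟙 X) (toUnit X)).left ?_ ?_]
    · exact inferInstanceAs (IsIso ((Over.forget _).map (g ≫ lift (𝟙 X) (toUnit X))))
    · change (g ≫ lift (𝟙 X) (toUnit X)).left ≫ (X ◁ h).left = v.left ≫ (lift (p ≫ snd X X) q).left
      rw [← Over.comp_left, ← Over.comp_left]
      congr 1
      have h1 := congrArg (· ≫ snd X X) hvp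
      simp only [Category.assoc, lift_snd] at h1
      ext1
      · simp [h1]
      · simp [hv.w, ← Category.assoc, toUnit_unique (g ≫ toUnit X) (toUnit X)]
    · rw [← Over.comp_left, Category.assoc, lift_snd, toUnit_unique (g ≫ toUnit X) (toUnit X)]
  have hr : Set.range h.left ⊆ Set.range U₀.ι := by
    rw [Scheme.Opens.range_ι]
    exact fun x hx => ⟨hr₁ hx, hr₂ hx⟩
  let h' : 𝟙_ (Over (Spec (CommRingCat.of k))) ⟶ U := Over.homMk (IsOpenImmersion.lift U₀.ι h.left hr) (by
    change IsOpenImmersion.lift U₀.ι h.left hr ≫ U₀.ι ≫ H.hom = _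
    rw [IsOpenImmersion.lift_fac_assoc, Over.w])
  have hh' : h' ≫ u = h := by
    ext1
    exact IsOpenImmersion.lift_fac U₀.ι h.left hr
  refine ⟨h', ?_⟩
  let v' : X ⟶ pullback q u := pullback.lift v (toUnit X ≫ h') (by rw [Category.assoc, hh', hv.w])
  have hv1 : v' ≫ pullback.fst q u = v := pullback.lift_fst _ _ _
  have hv2 : v' ≫ pullback.snd q u = toUnit X ≫ h' := pullback.lift_snd _ _ _
  have h2 := congrArg (· ≫ fst X X) hvp
  have h3 := congrArg (· ≫ snd X X) hvp
  simp only [Category.assoc, lift_fst, lift_snd] at h2 h3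
  have h1 : lift (𝟙 X) (toUnit X) ≫ (X ◁ h') = v' ≫ b₁ := by
    have h4 : v' ≫ b₁ = lift (𝟙 X) (toUnit X ≫ h') := by
      rw [comp_lift, ← Category.assoc, hv1, hv2, h2]
    rw [h4, lift_whiskerLeft]
  rw [← cancel_epi (lift (𝟙 X) (toUnit X)), pullFam, ← Category.assoc, h1, Category.assoc, IsIso.hom_inv_id_assoc,
    lift_fst, lift_fst_assoc, Category.id_comp, ← Category.assoc, hv1, h3]

end K238.AutFamily
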