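import Groth.Agent.AutSch.K238.HilbH
import Mathlib.CategoryTheory.Monoidal.Cartesian.Over

/-!
# One family containing all closed subschemes with a given Hilbert function

Geometric form of `HilbH.exists_family`.
-/

set_option autoImplicit false
universe u
open CategoryTheory CategoryTheory.Limits MonoidalCategory CartesianMonoidalCategory AlgebraicGeometry CohB1

namespace K238.HilbFam

open Groth.Agent.Fga Groth.Agent.Fga.HilbAsm1 Groth.Agent.Fga.HilbAsm2 Groth.Agent.Fga.HilbFun
  Groth.Agent.Picfga.IdealDescent Groth.Agent.CohqB.ProjBC Opposite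

variable {k : Type u} [Field k] {n : ℕ}

/-- The Hilbert function `d ↦ dim H⁰(V, 𝒪(d))` of a scheme `V` with a map to a closed subscheme `Y` of `P^n_k`. -/
noncomputable def hf {Y V : Over (Spec (CommRingCat.of k))} (i : Y.left ⟶ ProjSpaceOver n (Spec (CommRingCat.of k)))
    (j : V ⟶ Y) (d : ℕ) : ℕ :=
  QT8.hilb (j.left ≫ i ≫ fstZ n _) V.hom (Coh.structureModule V.left) d

/-- Base change of the subscheme of an ideal sheaf, with the ideal of a closed immersion. -/
theorem exists_isPullback {X X' V : Scheme.{u}} (g : X' ⟶ X) (J : X.IdealSheafData) (v : V ⟶ X') [IsClosedImmersion v]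
    (h : J.comap g = v.ker) : ∃ a : V ⟶ J.subscheme, IsPullback a v J.subschemeι g := by
  have h1 := isPullback_comap g J
  have h2 : ∀ (K : X'.IdealSheafData), J.comap g = K → ∃ a : K.subscheme ⟶ J.subscheme,
      IsPullback a K.subschemeι J.subschemeι g := by
    rintro K rfl
    exact ⟨_, h1⟩
  obtain ⟨a, ha⟩ := h2 _ h
  have e : v.toImage ≫ v.ker.subschemeι = v := v.toImage_imageι
  have : IsIso v.toImage := inferInstance
  refine ⟨v.toImage ≫ a, ?_⟩
  exact IsPullback.of_iso ha (asIso v.toImage).symm (Iso.refl _) (Iso.refl _) (Iso.refl _) (by simp)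
    (by simp [e]) (by simp) (by simp)

/-- **One family** over a proper base containing all closed subschemes with the Hilbert function of `j₀`. -/
theorem exists_family {Y : Over (Spec (CommRingCat.of k))} (i : Y.left ⟶ ProjSpaceOver n (Spec (CommRingCat.of k)))
    [IsClosedImmersion i] (hi : i ≫ ProjSpaceOver.toBase n _ = Y.hom) {V₀ : Over (Spec (CommRingCat.of k))}
    (j₀ : V₀ ⟶ Y) [IsClosedImmersion j₀.left] :
    ∃ (H Z : Over (Spec (CommRingCat.of k))) (q : Z ⟶ H) (p : Z ⟶ Y), IsProper H.hom ∧ IsProper q.left ∧ Flat q.left ∧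
      ∀ (V : Over (Spec (CommRingCat.of k))) (j : V ⟶ Y) [IsClosedImmersion j.left],
        (∃ D : ℕ, ∀ d : ℕ, D ≤ d → hf i j d = hf i j₀ d) →
        ∃ (h : 𝟙_ (Over (Spec (CommRingCat.of k))) ⟶ H) (v : V ⟶ Z), IsPullback v (toUnit V) q h ∧ v ≫ p = j := by
  -- the point of the Hilbert functor of a closed subscheme
  have key : ∀ (V : Over (Spec (CommRingCat.of k))) (j : V ⟶ Y) [IsClosedImmersion j.left],
      ∃ (v : V.left ⟶ PicF.XT (fX i) (Over.mk (𝟙 (Spec (CommRingCat.of k))))) (_ : IsClosedImmersion v)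
        (x : (hilb (fX i)).obj (op (Over.mk (𝟙 (Spec (CommRingCat.of k)))))),
        idl _ x = v.ker ∧ v ≫ pullback.fst _ _ = j.left ∧ v ≫ PicF.XTproj (fX i) _ = V.hom := by
    intro V j _
    let v : V.left ⟶ PicF.XT (fX i) (Over.mk (𝟙 (Spec (CommRingCat.of k)))) :=
      pullback.lift j.left V.hom (by
        rw [fX, hi, Over.w]
        exact (Category.comp_id _).symm)
    have h1 : v ≫ pullback.fst _ _ = j.left := pullback.lift_fst _ _ _
    have h2 : v ≫ PicF.XTproj (fX i) _ = V.hom := pullback.lift_snd _ _ _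
    have h3 : IsClosedImmersion (v ≫ pullback.fst (fX i) (Over.mk (𝟙 (Spec (CommRingCat.of k)))).hom) := by
      rw [h1]; infer_instance
    have hiso : IsIso (pullback.fst (fX i) (Over.mk (𝟙 (Spec (CommRingCat.of k)))).hom) :=
      inferInstanceAs (IsIso (pullback.fst (fX i) (𝟙 _)))
    have h4 : IsClosedImmersion v :=
      IsClosedImmersion.of_comp v (pullback.fst (fX i) (Over.mk (𝟙 (Spec (CommRingCat.of k)))).hom)
    have e : v.toImage ≫ v.ker.subschemeι = v := v.toImage_imageι
    have h5 : IsIso v.toImage := inferInstance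
    have h6 : IsProper V.hom := by
      have h7 : IsProper (j.left ≫ Y.hom) := by
        rw [← hi]
        infer_instance
      rwa [Over.w] at h7
    have h8 : v.ker.subschemeι ≫ PicF.XTproj (fX i) (Over.mk (𝟙 _)) = inv v.toImage ≫ V.hom := by
      rw [IsIso.eq_inv_comp, ← Category.assoc, e, h2]
    have h9 : Flat V.hom := inferInstance
    refine ⟨v, h4, toH _ ⟨v.ker, ?_, ?_⟩, rfl, h1, h2⟩
    · rw [h8]
      exact MorphismProperty.comp_mem @IsProper _ _ inferInstance h6
    · rw [h8]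
      exact MorphismProperty.comp_mem @Flat _ _ inferInstance h9
  obtain ⟨v₀, hv₀, x₀, hx₀, h01, h02⟩ := key V₀ j₀
  obtain ⟨D₀, hD₀⟩ := HilbH.h_KX i (𝟙 _) v₀ x₀ hx₀
  obtain ⟨H, ξ, hH, hfam⟩ := HilbH.exists_family i x₀
  let I := idl (fX i) ξ
  have hI := idl_prop (fX i) ξ
  let Z : Over (Spec (CommRingCat.of k)) := Over.mk (I.subschemeι ≫ PicF.XTproj (fX i) H ≫ H.hom)
  let q : Z ⟶ H := Over.homMk (I.subschemeι ≫ PicF.XTproj (fX i) H) (Category.assoc _ _ _)
  let p : Z ⟶ Y := Over.homMk (I.subschemeι ≫ pullback.fst (fX i) H.hom) (by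
    rw [Category.assoc, ← hi]
    exact congrArg (I.subschemeι ≫ ·) (pullback.condition (f := fX i) (g := H.hom)))
  refine ⟨H, Z, q, p, hH, hI.1, hI.2, fun V j _ ⟨D, hD⟩ => ?_⟩
  obtain ⟨v, hv, x, hx, h1, h2⟩ := key V j
  obtain ⟨D₁, hD₁⟩ := HilbH.h_KX i (𝟙 _) v x hx
  obtain ⟨g, hg⟩ := hfam x ⟨max D (max D₀ D₁), fun d hd => by
    rw [hD₀ d (by omega), hD₁ d (by omega)]
    have h3 := hD d (by omega)
    unfold hf at h3
    rw [← h1, ← h2, ← h01, ← h02, Category.assoc, Category.assoc] at h3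
    exact congrArg Nat.cast h3⟩
  have h3 : I.comap (PicF.XTmap (fX i) g) = v.ker := by
    rw [← hx, ← hg, idl_map, hilbPull_eq_comap]
  obtain ⟨a, ha⟩ := exists_isPullback _ I v h3
  have h4 := ha.paste_vert (RelCart.isPullback_XTmap (fX i) g)
  rw [h2] at h4
  let h' : 𝟙_ (Over (Spec (CommRingCat.of k))) ⟶ H := g
  let vv : V ⟶ Z := Over.homMk a (by
    change a ≫ I.subschemeι ≫ PicF.XTproj (fX i) H ≫ H.hom = _
    have h5 := h4.w =≫ H.hom
    rw [Category.assoc, Category.assoc, Category.assoc, Over.w g] at h5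
    rw [h5]
    exact Category.comp_id _)
  refine ⟨h', vv, ?_, ?_⟩
  · exact IsPullback.of_map (Over.forget _) (by ext1; exact h4.w) h4
  · ext1
    change a ≫ I.subschemeι ≫ pullback.fst (fX i) H.hom = j.left
    rw [← Category.assoc, ha.w, Category.assoc, FGA.XTmap_fst, h1]

end K238.HilbFam
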