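import Groth.Agent.Fga.HilbAsm2
import Groth.Agent.Fga.QHAlg
import Groth.Agent.Fga.QT8Map
import Groth.Agent.Fga.ExistsRepQ795
import Groth.Agent.CohqB.P1Charts
import Groth.Agent.Fdesc.LocGenTensor
import Groth.Agent.Fdesc.StructMod

/-!
# The Hilbert function of a closed subscheme of projective space in terms of its sections

For a closed immersion `v : V ⟶ P^n_k` the homogeneous ideal attached to `V` by the dictionary of the Hilbert scheme is
the kernel of the evaluation maps on the charts; so its Hilbert function is `dim H⁰(V, 𝒪(d))` for large `d`.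
-/

set_option autoImplicit false
universe u
open CategoryTheory CategoryTheory.Limits AlgebraicGeometry MvPolynomial HomogeneousLocalization CohB1
open Groth.Agent.CohqB.ProjBC

namespace K238.HilbH

open Groth.Agent.Fga Groth.Agent.Fga.QD1Alg Groth.Agent.Fga.QD1Sch Groth.Agent.Fga.QTDefs Groth.Agent.Fga.QA0

section Spec

variable {R : Type u} [CommRing R]

theorem mem_toI_ker {W : Scheme.{u}} (w : W ⟶ Spec (CommRingCat.of R)) [QuasiCompact w] (z : R) :
    z ∈ toI w.ker ↔ w.appTop.hom ((Scheme.ΓSpecIso (CommRingCat.of R)).inv.hom z) = 0 := by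
  have h1 : (w.ker.ideal ⟨⊤, isAffineOpen_top _⟩) = RingHom.ker w.appTop.hom := by
    rw [Scheme.Hom.ker_apply]
    rfl
  have h2 : toI w.ker = (RingHom.ker w.appTop.hom).comap (Scheme.ΓSpecIso (CommRingCat.of R)).inv.hom := by
    unfold toI
    rw [h1]
    exact Ideal.map_comap_of_equiv (I := RingHom.ker w.appTop.hom)
      ((Scheme.ΓSpecIso (CommRingCat.of R)).commRingCatIsoToRingEquiv)
  rw [h2]
  rfl

end Spec

section Chart

variable {A : Type u} [CommRing A] {n : ℕ} {V : Scheme.{u}} (v : V ⟶ ProjSpace n A)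

/-- The map to `P^n_ℤ`. -/
noncomputable abbrev gZ : V ⟶ PZ n := v ≫ pmap (QD1Hilb.zHom A) n

/-- The structure map. -/
noncomputable abbrev qA : V ⟶ Spec (CommRingCat.of A) := v ≫ ProjSpace.toSpec n A

theorem V_gZ (i : Fin (n + 1)) : QTDefs.V (gZ v) i = v ⁻¹ᵁ (Groth.Agent.CohqB.P1Charts.D n A i) := by
  have h : pmap (QD1Hilb.zHom A) n ⁻¹ᵁ (Groth.Agent.CurvesC.ProjSpaceBasic.Dp n (ULift.{u} ℤ) i) =
      Proj.basicOpen (CohB1.polyGrading n A) (gmap (QD1Hilb.zHom A) n (MvPolynomial.X i)) :=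
    Proj.map_preimage_basicOpen (gmap (QD1Hilb.zHom A) n) (irrelevant_le (QD1Hilb.zHom A) n) _
  rw [gmap_apply, MvPolynomial.map_X] at h
  change (v ≫ pmap (QD1Hilb.zHom A) n) ⁻¹ᵁ _ = _
  rw [Scheme.Hom.comp_preimage, h]
  rfl

/-- The sections of the chart `i` pulled back to a scheme `W` mapping to the chart. -/
theorem ev_eq (i : Fin (n + 1)) {W : Scheme.{u}} (p : W ⟶ V) (w : W ⟶ Spec (CommRingCat.of (Rc n A i)))
    (h : p ≫ v = w ≫ chartι n i) (hp : (⊤ : W.Opens) ≤ p ⁻¹ᵁ QTDefs.V (gZ v) i) (f : P n A) :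
    (p.appLE (QTDefs.V (gZ v) i) ⊤ hp).hom (ev (gZ v) (qA v) i f) =
      w.appTop.hom ((Scheme.ΓSpecIso (CommRingCat.of (Rc n A i))).inv.hom (chartHom n i f)) := by
  have key : ((p.appLE (QTDefs.V (gZ v) i) ⊤ hp).hom).comp (ev (gZ v) (qA v) i) =
      (w.appTop.hom.comp (Scheme.ΓSpecIso (CommRingCat.of (Rc n A i))).inv.hom).comp (chartHom n i) := by
    apply MvPolynomial.ringHom_ext
    · intro a
      rw [RingHom.comp_apply, RingHom.comp_apply, ev_C, chartHom_C]
      have h1 : p ≫ qA v = w ≫ Spec.map (CommRingCat.ofHom (awayAlg (A := A) n (X i))) := by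
        rw [qA, ← Category.assoc, h, Category.assoc, chartι_toSpec]
      have h2 : (p.appLE (QTDefs.V (gZ v) i) ⊤ hp).hom (coeff (qA v) (QTDefs.V (gZ v) i) a) =
          (p ≫ qA v).appTop.hom ((Scheme.ΓSpecIso (CommRingCat.of A)).inv.hom a) := by
        have h3 : (qA v).appLE ⊤ (QTDefs.V (gZ v) i) le_top ≫ p.appLE (QTDefs.V (gZ v) i) ⊤ hp =
          (p ≫ qA v).appLE ⊤ ⊤ le_top := Scheme.Hom.appLE_comp_appLE _ _ _ _ _ _ _
        have h4 : (p ≫ qA v).appLE ⊤ ⊤ le_top = (p ≫ qA v).appTop := Scheme.Hom.appLE_eq_app _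
        rw [← h4, ← h3]
        rfl
      rw [h2]
      have h5 : (p ≫ qA v).appTop = (w ≫ Spec.map (CommRingCat.ofHom (awayAlg (A := A) n (X i)))).appTop := by
        rw [h1]
      rw [h5]
      have h6 := Scheme.ΓSpecIso_inv_naturality (CommRingCat.ofHom (awayAlg (A := A) n (X i)))
      have h7 := congr($(h6).hom a)
      exact (congrArg w.appTop.hom h7).symm
    · intro k
      rw [RingHom.comp_apply, RingHom.comp_apply, ev_X]
      have h1 : p ≫ gZ v = (w ≫ Spec.map (CommRingCat.ofHom (cmap (QD1Hilb.zHom A) i))) ≫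
          chartι (A := ULift.{u} ℤ) n i := by
        rw [gZ, ← Category.assoc, h, Category.assoc, chartι_pmap, Category.assoc]
      have h2 : (⊤ : (Spec (CommRingCat.of (Rc n (ULift.{u} ℤ) i))).Opens) ≤
          chartι (A := ULift.{u} ℤ) n i ⁻¹ᵁ (Groth.Agent.CohqB.P1Charts.D n (ULift.{u} ℤ) i) := by
        rw [← Groth.Agent.CohqB.P1Charts.opensRange_chartι, Scheme.Hom.preimage_opensRange]
      have h3 : (⊤ : W.Opens) ≤ (p ≫ gZ v) ⁻¹ᵁ (Groth.Agent.CohqB.P1Charts.D n (ULift.{u} ℤ) i) := hp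
      have h4 : (p.appLE (QTDefs.V (gZ v) i) ⊤ hp).hom (QTDefs.y (gZ v) i k) =
          ((p ≫ gZ v).appLE (Groth.Agent.CohqB.P1Charts.D n (ULift.{u} ℤ) i) ⊤ h3).hom
            (Groth.Agent.CohqB.P1Charts.ratio n (ULift.{u} ℤ) i k) := by
        rw [Scheme.Hom.comp_appLE]
        rfl
      rw [h4]
      have h5 : (p ≫ gZ v).appLE (Groth.Agent.CohqB.P1Charts.D n (ULift.{u} ℤ) i) ⊤ h3 =
          (chartι (A := ULift.{u} ℤ) n i).appLE (Groth.Agent.CohqB.P1Charts.D n (ULift.{u} ℤ) i) ⊤ h2 ≫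
            (w ≫ Spec.map (CommRingCat.ofHom (cmap (QD1Hilb.zHom A) i))).appTop := by
        have h6 : (w ≫ Spec.map (CommRingCat.ofHom (cmap (QD1Hilb.zHom A) i))).appLE ⊤ ⊤ le_top =
            (w ≫ Spec.map (CommRingCat.ofHom (cmap (QD1Hilb.zHom A) i))).appTop :=
          Scheme.Hom.appLE_eq_app _
        have h7 := Scheme.Hom.appLE_comp_appLE (w ≫ Spec.map (CommRingCat.ofHom (cmap (QD1Hilb.zHom A) i)))
          (chartι (A := ULift.{u} ℤ) n i) (Groth.Agent.CohqB.P1Charts.D n (ULift.{u} ℤ) i) ⊤ ⊤ h2 le_top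
        rw [h6] at h7
        rw [h7]
        simp only [h1]
      rw [h5, CommRingCat.comp_apply]
      have h7 : ((chartι (A := ULift.{u} ℤ) n i).appLE (Groth.Agent.CohqB.P1Charts.D n (ULift.{u} ℤ) i) ⊤ h2).hom
          (Groth.Agent.CohqB.P1Charts.ratio n (ULift.{u} ℤ) i k) =
          (Scheme.ΓSpecIso (CommRingCat.of (Rc n (ULift.{u} ℤ) i))).inv.hom
            (Groth.Agent.CohqB.P1Charts.frac n (ULift.{u} ℤ) i k) :=
        congr($(Groth.Agent.CohqB.P1Charts.sec_chartι n (ULift.{u} ℤ) i).hom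
          (Groth.Agent.CohqB.P1Charts.frac n (ULift.{u} ℤ) i k))
      rw [h7]
      have h8 := Scheme.ΓSpecIso_inv_naturality (CommRingCat.ofHom (cmap (A := ULift.{u} ℤ) (QD1Hilb.zHom A) i))
      have h9 := congr($(h8).hom (Groth.Agent.CohqB.P1Charts.frac n (ULift.{u} ℤ) i k))
      have h10 : cmap (QD1Hilb.zHom A) i (Groth.Agent.CohqB.P1Charts.frac n (ULift.{u} ℤ) i k) = chartHom n i (X k) := by
        have h11 : Groth.Agent.CohqB.P1Charts.frac n (ULift.{u} ℤ) i k = chartHom n i (X k) := (chartHom_X n i k).symm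
        rw [h11, cmap_chartHom, MvPolynomial.map_X]
      rw [← h10]
      exact (congrArg w.appTop.hom h9).symm
  exact congr($key f)

theorem isIso_appLE_top {W V : Scheme.{u}} (p : W ⟶ V) [IsOpenImmersion p] (U : V.Opens) (hU : U = p.opensRange)
    (hp : (⊤ : W.Opens) ≤ p ⁻¹ᵁ U) : IsIso (p.appLE U ⊤ hp) := by
  subst hU
  have h1 : IsIso (p.app p.opensRange) := p.isIso_app _ le_rfl
  have h2 : p.appLE p.opensRange ⊤ hp = p.app p.opensRange ≫ W.presheaf.map (homOfLE hp).op := rfl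
  have h3 : IsIso (homOfLE hp) := by
    have : p ⁻¹ᵁ p.opensRange = ⊤ := top_le_iff.mp hp
    exact ⟨⟨homOfLE le_top, Subsingleton.elim _ _, Subsingleton.elim _ _⟩⟩
  rw [h2]
  infer_instance

/-- The homogeneous ideal of a closed subscheme is the kernel of the evaluation maps. -/
theorem mem_hI_iff [IsClosedImmersion v] {d : ℕ} {f : P n A} (hf : f.IsHomogeneous d) :
    f ∈ hI v.ker ↔ ∀ i, ev (gZ v) (qA v) i f = 0 := by
  unfold hI
  rw [mem_glob_of_homogeneous hf]
  refine forall_congr' fun i => ?_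
  have hpb := IsPullback.of_hasPullback v (chartι (A := A) n i)
  have hk := HilbClosed.ker_of_isPullback hpb
  unfold chI
  rw [← hk, mem_toI_ker]
  have hr : QTDefs.V (gZ v) i = (pullback.fst v (chartι (A := A) n i)).opensRange := by
    rw [V_gZ, ← Groth.Agent.CohqB.P1Charts.opensRange_chartι]
    ext x
    constructor
    · rintro ⟨y, hy⟩
      obtain ⟨z, hz1, hz2⟩ := Scheme.Pullback.exists_preimage_pullback (f := v) (g := chartι (A := A) n i) x y hy.symm
      exact ⟨z, hz1⟩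
    · rintro ⟨z, rfl⟩
      refine ⟨pullback.snd v (chartι (A := A) n i) z, ?_⟩
      rw [← Scheme.Hom.comp_apply, ← pullback.condition, Scheme.Hom.comp_apply]
  have hp : (⊤ : (pullback v (chartι (A := A) n i)).Opens) ≤
      pullback.fst v (chartι (A := A) n i) ⁻¹ᵁ QTDefs.V (gZ v) i := by
    rw [hr, Scheme.Hom.preimage_opensRange]
  rw [← ev_eq v i (pullback.fst v (chartι (A := A) n i)) (pullback.snd v (chartι (A := A) n i))
    pullback.condition hp f]
  have hiso := isIso_appLE_top (pullback.fst v (chartι (A := A) n i)) _ hr hp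
  have hinj : Function.Injective ((pullback.fst v (chartι (A := A) n i)).appLE (QTDefs.V (gZ v) i) ⊤ hp).hom :=
    (ConcreteCategory.bijective_of_isIso _).1
  constructor
  · intro h
    exact hinj (by rw [h, map_zero])
  · intro h
    rw [h, map_zero]

theorem toPA_eq : Groth.Agent.Fga.QT4b.toPA (gZ v) (qA v) = v ≫ (projSpaceOverIso n A).inv := by
  apply pullback.hom_ext
  · exact (pullback.lift_fst _ _ _).trans
      ((congrArg (v ≫ ·) (QD1Hilb.projSpaceOverIso_inv_fstZ A).symm).trans (Category.assoc _ _ _).symm)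
  · refine (pullback.lift_snd _ _ _).trans (Eq.trans ?_ (Category.assoc _ _ _).symm)
    exact congrArg (v ≫ ·) (projSpaceOverIso_inv_toBase n A).symm

instance [IsClosedImmersion v] : IsClosedImmersion (Groth.Agent.Fga.QT4b.toPA (gZ v) (qA v)) := by
  rw [toPA_eq]
  infer_instance

open Groth.Agent.Fdesc.LocGen in
/-- The unit section as a generating system. -/
noncomputable def unitSys (g : V ⟶ PZ n) : GenSys g (Coh.structureModule V) Unit 0 where
  e i _ := one (QTDefs.V g i)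
  glue i k _ := by
    rw [pow_zero, one_smul]
    exact (res_one _).trans (res_one _).symm

open Groth.Agent.Fdesc.LocGen in
theorem unitSys_gen (g : V ⟶ PZ n) : (unitSys g).Gen := by
  intro i
  rw [eq_top_iff]
  intro m _
  obtain ⟨a, ha⟩ := (isGen_one (QTDefs.V g i)).exists_eq m
  rw [ha]
  exact Submodule.smul_mem _ _ (Submodule.subset_span ⟨(), rfl⟩)

open Groth.Agent.Fdesc.LocGen in
theorem sg_unitSys_eq_zero (g : V ⟶ PZ n) (q : V ⟶ Spec (CommRingCat.of A)) (i : Fin (n + 1))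
    (w : W (Fin (n + 1)) Unit A) : sg g q (unitSys g) i w = 0 ↔ ev g q i (w ()) = 0 := by
  rw [sg_apply]
  have h1 : ∑ j, ev g q i (w j) • (unitSys g).e i j = ev g q i (w ()) • one (QTDefs.V g i) := by
    rw [Finset.univ_unique, Finset.sum_singleton]
    rfl
  rw [h1]
  constructor
  · intro h
    exact (isGen_one (QTDefs.V g i)).ext (by rw [h, zero_smul])
  · intro h
    rw [h, zero_smul]

/-- The homogeneous submodule of a closed subscheme of `P^n_A`. -/
theorem toW_hI_eq [IsClosedImmersion v] :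
    QD1Hilb.toW (hI v.ker) = grSub (gZ v) (qA v) (unitSys (gZ v)) ⊥ := by
  ext w
  rw [QD1Hilb.mem_toW, mem_grSub]
  have h1 : ∀ d i, sg (gZ v) (qA v) (unitSys (gZ v)) i (comp d w) ∈ secSub (⊥ : Subobject _) (QTDefs.V (gZ v) i) ↔
      ev (gZ v) (qA v) i (homogeneousComponent d (w ())) = 0 := fun d i => by
    rw [QT8.mem_secSub_bot, sg_unitSys_eq_zero]
    rfl
  simp_rw [h1]
  constructor
  · intro h d i
    exact (mem_hI_iff v (homogeneousComponent_isHomogeneous d (w ()))).1 (isHom_hI _ _ h d) i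
  · intro h
    rw [← sum_homogeneousComponent (w ())]
    exact Submodule.sum_mem _ fun d _ =>
      (mem_hI_iff v (homogeneousComponent_isHomogeneous d (w ()))).2 (h d)

/-- **The Hilbert function** of the homogeneous submodule of a closed subscheme of `P^n_k` is the dimension of the space of
sections of `𝒪(d)` for large `d`. -/
theorem h_toW_hI {k : Type u} [Field k] (v : V ⟶ ProjSpace n k) [IsClosedImmersion v] :
    ∃ D : ℕ, ∀ d : ℕ, D ≤ d → QA1.h (QD1Hilb.toW (hI v.ker)) d =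
      QT8.hilb (gZ v) (qA v) (Coh.structureModule V) d := by
  have hH : IsHom (QD1Hilb.toW (hI v.ker)) := QD1Hilb.isHom_toW.2 (isHom_hI _)
  have hS : IsSat (QD1Hilb.toW (hI v.ker)) := QD1Hilb.isSat_toW.2 (isSat_hI _)
  obtain ⟨Ψ, -, -, h3⟩ := QA2.field_main hH hS
  refine ⟨QA1.bd (Fintype.card (Fin (n + 1))) Ψ, fun d hd => ?_⟩
  have h4 := (h3 d hd).2.2
  rw [toW_hI_eq] at h4 ⊢
  exact (QT8.hilb_eq_of_H1 (unitSys (gZ v)) (Groth.Agent.Fdesc.StructMod.isQCoh_structureModule V) (unitSys_gen _) h4).symm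

end Chart

section KX

open Groth.Agent.Fga.HilbClosed Groth.Agent.Fga.HilbAsm1 Groth.Agent.Fga.HilbAsm2 Groth.Agent.Fga.HilbFun
  Groth.Agent.Fga.QD1Hilb Opposite

variable {n : ℕ} {S Y : Scheme.{u}} (i : Y ⟶ ProjSpaceOver n S) [IsClosedImmersion i]
  {k : Type u} [Field k] (s : Spec (CommRingCat.of k) ⟶ S)

/-- The closed immersion into `P^n_k`. -/
noncomputable abbrev toPn {V : Scheme.{u}} (v : V ⟶ PicF.XT (fX i) (Over.mk s)) : V ⟶ ProjSpace n k :=
  v ≫ cT i (ProjSpaceOver.toBase n S) (Over.mk s) ≫ (xt n s).inv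

theorem toPn_gZ {V : Scheme.{u}} (v : V ⟶ PicF.XT (fX i) (Over.mk s)) :
    gZ (toPn i s v) = v ≫ pullback.fst _ _ ≫ i ≫ fstZ n S := by
  have h1 : (xt n s).inv ≫ pmap (zHom k) n = pullback.fst (ProjSpaceOver.toBase n S) (Over.mk s).hom ≫ fstZ n S := by
    rw [Iso.inv_comp_eq, ← Category.assoc, xt_hom_fst, Category.assoc, overMap_fstZ, projSpaceOverIso_inv_fstZ]
  rw [gZ, Category.assoc, Category.assoc, h1, ← Category.assoc (cT i _ _), cT_fst, Category.assoc]

theorem toPn_qA {V : Scheme.{u}} (v : V ⟶ PicF.XT (fX i) (Over.mk s)) :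
    qA (toPn i s v) = v ≫ PicF.XTproj (fX i) (Over.mk s) := by
  have h1 : (xt n s).inv ≫ ProjSpace.toSpec n k = PicF.XTproj (ProjSpaceOver.toBase n S) (Over.mk s) := by
    rw [Iso.inv_comp_eq, xt_hom_proj]
  rw [qA, Category.assoc, Category.assoc, h1, cT_proj]

theorem KX_eq {V : Scheme.{u}} (v : V ⟶ PicF.XT (fX i) (Over.mk s)) [IsClosedImmersion v]
    (x : (hilb (fX i)).obj (op (Over.mk s))) (hx : idl _ x = v.ker) :
    KX i s x = toW (hI (toPn i s v).ker) := by
  have h1 : (idl _ x).map (cT i (ProjSpaceOver.toBase n S) (Over.mk s)) =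
      (v ≫ cT i (ProjSpaceOver.toBase n S) (Over.mk s)).ker := by
    rw [hx]
    have e : v.toImage ≫ v.ker.subschemeι = v := v.toImage_imageι
    have : IsIso v.toImage := inferInstance
    change (v.ker.subschemeι ≫ cT i (ProjSpaceOver.toBase n S) (Over.mk s)).ker = _
    rw [← Scheme.Hom.ker_comp_of_isIso v.toImage, ← Category.assoc, e]
  have h2 : IsPullback (𝟙 V) (toPn i s v) (v ≫ cT i (ProjSpaceOver.toBase n S) (Over.mk s)) (xt n s).hom :=
    IsPullback.of_horiz_isIso ⟨by simp⟩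
  rw [KX, K, h1, ← ker_of_isPullback h2]

/-- The Hilbert function of a point of the Hilbert functor of `Y`. -/
theorem h_KX {V : Scheme.{u}} (v : V ⟶ PicF.XT (fX i) (Over.mk s)) [IsClosedImmersion v]
    (x : (hilb (fX i)).obj (op (Over.mk s))) (hx : idl _ x = v.ker) :
    ∃ D : ℕ, ∀ d : ℕ, D ≤ d → QA1.h (KX i s x) d =
      QT8.hilb (v ≫ pullback.fst _ _ ≫ i ≫ fstZ n S) (v ≫ PicF.XTproj (fX i) (Over.mk s))
        (Coh.structureModule V) d := by
  rw [KX_eq i s v x hx, ← toPn_gZ, ← toPn_qA]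
  exact h_toW_hI (toPn i s v)

end KX

section Family

open Groth.Agent.Fga.HilbAsm1 Groth.Agent.Fga.HilbAsm2 Groth.Agent.Fga.HilbFun Groth.Agent.Fga.NoethRep Opposite

variable {n : ℕ} {Y : Scheme.{u}} {k : Type u} [Field k] (i : Y ⟶ ProjSpaceOver n (Spec (CommRingCat.of k)))
  [IsClosedImmersion i]

/-- The Hilbert polynomial of a point of the Hilbert functor over a field. -/
theorem exists_poly (x : (hilb (fX i)).obj (op (Over.mk (𝟙 (Spec (CommRingCat.of k)))))) :
    ∃ Φ : ℤ → ℤ, QA1.Num (n + 1) Φ ∧ HP Φ (KX i (𝟙 _) x) ∧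
      ∃ D : ℕ, ∀ d : ℕ, D ≤ d → QA1.h (KX i (𝟙 _) x) d = Φ d := by
  obtain ⟨Φ, h1, f, hf, h2⟩ := QHAlg.cov (KX_isQuotPt i (𝟙 _) x) (⊥ : PrimeSpectrum k)
  rw [Fintype.card_fin] at h1
  have hf0 : f ≠ 0 := fun h => hf (by rw [h]; exact Ideal.zero_mem _)
  have h3 : ∀ (k' : Type u) [Field k'] (φ : k →+* k'), ∃ D : ℕ, ∀ d : ℕ, D ≤ d →
      QA1.h (bcSat φ (KX i (𝟙 _) x)) d = Φ d := fun k' _ φ =>
    h2 k' φ ((map_ne_zero φ).2 hf0)
  refine ⟨Φ, h1, h3, ?_⟩
  have h4 := h3 k (RingHom.id k)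
  have h5 := KX_map i (RingHom.id k) (𝟙 _) (𝟙 _) (𝟙 (Over.mk (𝟙 (Spec (CommRingCat.of k))))) (by
    rw [CommRingCat.ofHom_id, Spec.map_id]; rfl) x
  have h6 : (hilb (fX i)).map (𝟙 (Over.mk (𝟙 (Spec (CommRingCat.of k))))).op x = x := by
    rw [op_id, CategoryTheory.Functor.map_id]; rfl
  rw [h6] at h5
  rw [h5]
  exact h4

/-- **Finiteness**: all points of the Hilbert functor over the field `k` with the same Hilbert function in large degrees
are fibres of one family over a scheme proper over `k`. -/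
theorem exists_family (x₀ : (hilb (fX i)).obj (op (Over.mk (𝟙 (Spec (CommRingCat.of k)))))) :
    ∃ (H : Over (Spec (CommRingCat.of k))) (ξ : (hilb (fX i)).obj (op H)), IsProper H.hom ∧
      ∀ x : (hilb (fX i)).obj (op (Over.mk (𝟙 (Spec (CommRingCat.of k))))),
        (∃ D : ℕ, ∀ d : ℕ, D ≤ d → QA1.h (KX i (𝟙 _) x) d = QA1.h (KX i (𝟙 _) x₀) d) →
        ∃ g : Over.mk (𝟙 (Spec (CommRingCat.of k))) ⟶ H, (hilb (fX i)).map g.op ξ = x := by
  obtain ⟨Φ, hΦ, -, D₀, hD₀⟩ := exists_poly i x₀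
  obtain ⟨P, r, N, c, hc⟩ := ExistsRepQ795.exists_repQ.{u} (Fin (n + 1)) Unit Φ (by rwa [Fintype.card_fin])
  obtain ⟨H, ξ, c', hξ, hc', hcc⟩ := exists_nrep_X i hΦ r c
  refine ⟨H, ξ.1, ?_, ?_⟩
  · rw [← hcc]
    infer_instance
  · rintro x ⟨D, hD⟩
    obtain ⟨Ψ, hΨ, hHP, D₁, hD₁⟩ := exists_poly i x
    have hΨΦ : Ψ = Φ := by
      apply hΨ.eq_of_eventually hΦ
      refine ⟨((max D (max D₀ D₁) : ℕ) : ℤ), fun e he => ?_⟩
      obtain ⟨e', rfl⟩ : ∃ e' : ℕ, e = e' := ⟨e.toNat, by omega⟩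
      rw [← hD₁ e' (by omega), ← hD₀ e' (by omega), hD e' (by omega)]
    subst hΨΦ
    have hN : IsLocallyNoetherian (Over.mk (𝟙 (Spec (CommRingCat.of k)))).left :=
      inferInstanceAs (IsLocallyNoetherian (Spec (CommRingCat.of k)))
    obtain ⟨g, hg, -⟩ := hξ.univ (Over.mk (𝟙 (Spec (CommRingCat.of k)))) ⟨x, (fibX_iff i Ψ (𝟙 _) x).2 hHP⟩
    exact ⟨g, congrArg Subtype.val hg⟩

end Family

end K238.HilbH
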